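import Mathlib
import Cfsg.Prelude.Def_HallClasses
import Cfsg.Agent.Lib.ConjFunctor.Basic

/-!
Pronormality of the overgroups of Sylow p-subgroups, along a normal subgroup.
-/

set_option autoImplicit false

namespace Cfsg.Agent.Lib.PronormalSylow

open Cfsg
open Cfsg.Agent.Lib.ConjFunctor

universe u v

variable {G : Type u} [Group G] {p : ℕ}

/-- Every overgroup of a Sylow `p`-subgroup is pronormal. -/
def AllPro (p : ℕ) (G : Type u) [Group G] : Prop :=
  ∀ K : Subgroup G, (∃ P : Sylow p G, (P : Subgroup G) ≤ K) → IsPronormal K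

theorem map_cj {H : Type v} [Group H] (f : G →* H) (g : G) (K : Subgroup G) :
    (cj g K).map f = cj (f g) (K.map f) := by
  rw [cj, cj, Subgroup.map_map, Subgroup.map_map]
  congr 1
  ext x
  simp

theorem cj_self_of_mem {K : Subgroup G} {k : G} (hk : k ∈ K) : cj k K = K :=
  mem_normalizer_iff_cj.mp (Subgroup.le_normalizer hk)

theorem pronormal_map {H : Type v} [Group H] {f : G →* H} (hf : Function.Surjective f)
    {K : Subgroup G} (h : IsPronormal K) : IsPronormal (K.map f) := by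
  intro b
  obtain ⟨g, rfl⟩ := hf b
  obtain ⟨x, hx, e⟩ := h g
  refine ⟨f x, ?_, ?_⟩
  · have := Subgroup.mem_map_of_mem f hx
    rw [Subgroup.map_sup] at this
    rwa [show (K.map (MulAut.conj g).toMonoidHom).map f =
      (K.map f).map (MulAut.conj (f g)).toMonoidHom from map_cj f g K] at this
  · show cj (f g) (K.map f) = cj (f x) (K.map f)
    rw [← map_cj, ← map_cj]
    exact congrArg (Subgroup.map f) e

theorem pronormal_subgroupOf {K N : Subgroup G} (hKN : K ≤ N) (h : IsPronormal K) :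
    IsPronormal (K.subgroupOf N) := by
  intro n
  obtain ⟨x, hx, e⟩ := h (n : G)
  have hm : ∀ m : N, (cj m (K.subgroupOf N)).map N.subtype = cj (m : G) K := fun m => by
    rw [map_cj, Subgroup.map_subgroupOf_eq_of_le hKN]; rfl
  have hmap : (K.subgroupOf N ⊔ cj n (K.subgroupOf N)).map N.subtype = K ⊔ cj (n : G) K := by
    rw [Subgroup.map_sup, hm, Subgroup.map_subgroupOf_eq_of_le hKN]
  have hx' : x ∈ (K.subgroupOf N ⊔ cj n (K.subgroupOf N)).map N.subtype := by
    rw [hmap]; exact hx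
  obtain ⟨y, hy, rfl⟩ := hx'
  refine ⟨y, hy, ?_⟩
  show cj n (K.subgroupOf N) = cj y (K.subgroupOf N)
  apply Subgroup.map_injective N.subtype_injective
  rw [hm, hm]
  exact e

/-- A pronormal subgroup has normalizer covering the normalizer of its image. -/
theorem map_normalizer_eq {K : Subgroup G} (A : Subgroup G) [A.Normal] (h : IsPronormal K) :
    (Subgroup.normalizer (K : Set G)).map (QuotientGroup.mk' A) =
      Subgroup.normalizer ((K.map (QuotientGroup.mk' A) : Subgroup (G ⧸ A)) : Set (G ⧸ A)) := by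
  refine le_antisymm (Subgroup.le_normalizer_map _) fun b hb => ?_
  obtain ⟨g, rfl⟩ := QuotientGroup.mk'_surjective A b
  obtain ⟨x, hx, e⟩ := h g
  have hle : K ⊔ cj g K ≤ (K.map (QuotientGroup.mk' A)).comap (QuotientGroup.mk' A) := by
    refine sup_le (Subgroup.le_comap_map _ _) ?_
    rw [← Subgroup.map_le_iff_le_comap, map_cj]
    exact le_of_eq (mem_normalizer_iff_cj.mp hb)
  obtain ⟨k, hk, ek⟩ := hle hx
  refine ⟨k * (x⁻¹ * g), ?_, ?_⟩
  · exact mul_mem (Subgroup.le_normalizer hk) (mem_normalizer_iff_cj.mpr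
      (by rw [← cj_cj, show cj g K = cj x K from e, cj_inv_cj]))
  · rw [map_mul, map_mul, map_inv, ← mul_assoc, ek, mul_inv_cancel, one_mul]

theorem pronormal_cj {K : Subgroup G} (a : G) (h : IsPronormal K) : IsPronormal (cj a K) := by
  intro g
  obtain ⟨x, hx, e⟩ := h (a⁻¹ * g * a)
  refine ⟨a * x * a⁻¹, ?_, ?_⟩
  · have := Subgroup.mem_map_of_mem (MulAut.conj a).toMonoidHom hx
    rw [Subgroup.map_sup] at this
    show a * x * a⁻¹ ∈ cj a K ⊔ cj g (cj a K)
    have e2 : cj g (cj a K) = cj a (cj (a⁻¹ * g * a) K) := by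
      rw [cj_cj, cj_cj]; congr 1; group
    rw [e2]
    exact this
  · show cj g (cj a K) = cj (a * x * a⁻¹) (cj a K)
    rw [cj_cj, cj_cj, show g * a = a * (a⁻¹ * g * a) by group,
      show a * x * a⁻¹ * a = a * x by group, ← cj_cj, ← cj_cj a x]
    exact congrArg (cj a) e

variable [Finite G] [hp : Fact p.Prime]

/-- `N_G(T)` contains every Sylow subgroup containing `T`, a Sylow subgroup of `A`. -/
theorem sylow_le_normalizer {A T : Subgroup G} [A.Normal] {T₀ : Sylow p A}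
    (hT₀ : (T₀ : Subgroup A).map A.subtype = T) {P : Sylow p G} (hTP : T ≤ P) :
    (P : Subgroup G) ≤ Subgroup.normalizer (T : Set G) := by
  have hPA : T = (P : Subgroup G) ⊓ A := by
    subst hT₀
    have hle : (T₀ : Subgroup A) ≤ (P : Subgroup G).subgroupOf A :=
      fun x hx => hTP (Subgroup.mem_map_of_mem A.subtype hx)
    have := T₀.3 (P.2.comap_subtype) hle
    rw [← this]
    exact Subgroup.subgroupOf_map_subtype _ _
  rw [hPA]
  exact (le_inf Subgroup.le_normalizer (by rw [Subgroup.normalizer_eq_top]; exact le_top)).trans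
    Subgroup.inf_normalizer_le_normalizer_inf

/-- The main implication. -/
theorem allPro_of (A : Subgroup G) [A.Normal] (hA : AllPro p A) (hQ : AllPro p (G ⧸ A))
    {T : Subgroup G} {T₀ : Sylow p A} (hT₀ : (T₀ : Subgroup A).map A.subtype = T)
    [(T.subgroupOf (Subgroup.normalizer (T : Set G))).Normal]
    (hN : AllPro p (↥(Subgroup.normalizer (T : Set G)) ⧸
      T.subgroupOf (Subgroup.normalizer (T : Set G))))
    (hnorm : ∀ K : Subgroup G, (∃ P : Sylow p G, (P : Subgroup G) ≤ K) →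
      (Subgroup.normalizer (K : Set G)).map (QuotientGroup.mk' A) =
        Subgroup.normalizer ((K.map (QuotientGroup.mk' A) : Subgroup (G ⧸ A)) : Set (G ⧸ A))) :
    AllPro p G := by
  have hTA : T ≤ A := hT₀ ▸ Subgroup.map_subtype_le _
  have hTp : IsPGroup p T := hT₀ ▸ T₀.2.map _
  suffices key : ∀ K : Subgroup G, (∃ P : Sylow p G, T ≤ P ∧ (P : Subgroup G) ≤ K) →
      IsPronormal K by
    rintro K ⟨P, hPK⟩
    obtain ⟨P', hP'⟩ := hTp.exists_le_sylow
    obtain ⟨g, hg⟩ := MulAction.exists_smul_eq G P P'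
    have e : (P' : Subgroup G) = cj g P := by
      rw [← hg]; rfl
    have := pronormal_cj g⁻¹ (key (cj g K) ⟨P', hP', e ▸ cj_mono g hPK⟩)
    rwa [cj_inv_cj] at this
  rintro K ⟨P, hTP, hPK⟩ g
  set J := K ⊔ cj g K with hJ
  have hKJ : K ≤ J := le_sup_left
  have hgJ : cj g K ≤ J := le_sup_right
  set π := QuotientGroup.mk' A with hπ
  have hπs : Function.Surjective π := QuotientGroup.mk'_surjective A
  -- reduce to conjugation by an element of `A`
  obtain ⟨xb, hxb, exb⟩ := hQ (K.map π) ⟨P.mapSurjective hπs, by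
    rw [Sylow.coe_mapSurjective]; exact Subgroup.map_mono hPK⟩ (π g)
  have hxb' : xb ∈ J.map π := by
    rw [hJ, Subgroup.map_sup, map_cj]; exact hxb
  obtain ⟨x, hx, rfl⟩ := hxb'
  have hn0 : π (x⁻¹ * g) ∈ Subgroup.normalizer ((K.map π : Subgroup (G ⧸ A)) : Set (G ⧸ A)) :=
    mem_normalizer_iff_cj.mpr (by
      rw [map_mul, map_inv, ← cj_cj, show cj (π g) (K.map π) = cj (π x) (K.map π) from exb,
        cj_inv_cj])
  rw [← hnorm K ⟨P, hPK⟩] at hn0
  obtain ⟨n', hn', en⟩ := hn0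
  obtain ⟨a, ha⟩ : ∃ a, a = x⁻¹ * g * n'⁻¹ := ⟨_, rfl⟩
  have haA : a ∈ A := by
    rw [← QuotientGroup.eq_one_iff (N := A), ← QuotientGroup.mk'_apply A, ha, map_mul, map_inv,
      ← hπ, en, mul_inv_cancel]
  have hJinv : ∀ {j : G}, j ∈ J → ∀ {H : Subgroup G}, H ≤ J → cj j H ≤ J := by
    intro j hj H hH
    exact (cj_mono j hH).trans (le_of_eq (cj_self_of_mem hj))
  have haK : cj a K = cj x⁻¹ (cj g K) := by
    rw [ha, ← cj_cj, ← cj_cj, mem_normalizer_iff_cj.mp (inv_mem hn')]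
  have haJ : cj a K ≤ J := haK ▸ hJinv (inv_mem hx) hgJ
  suffices h : ∃ y ∈ J, cj a K = cj y K by
    obtain ⟨y, hy, e⟩ := h
    refine ⟨x * y, mul_mem hx hy, ?_⟩
    show cj g K = cj (x * y) K
    rw [← cj_cj, ← e, haK, cj_cj_inv]
  -- inside `A`
  set L := K ⊓ A with hL
  have hTL : T ≤ L := le_inf (hTP.trans hPK) hTA
  obtain ⟨z₀, hz₀, ez₀⟩ := hA (L.subgroupOf A) ⟨T₀, fun y hy =>
    hTL (hT₀ ▸ Subgroup.mem_map_of_mem A.subtype hy)⟩ ⟨a, haA⟩
  set z : G := (z₀ : G) with hz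
  have hLm : ∀ m : A, (cj m (L.subgroupOf A)).map A.subtype = cj (m : G) L := fun m => by
    rw [map_cj, Subgroup.map_subgroupOf_eq_of_le inf_le_right]; rfl
  have hzJ : z ∈ J := by
    have := Subgroup.mem_map_of_mem A.subtype hz₀
    rw [Subgroup.map_sup] at this
    change z ∈ (L.subgroupOf A).map A.subtype ⊔
      (cj (⟨a, haA⟩ : A) (L.subgroupOf A)).map A.subtype at this
    rw [hLm, Subgroup.map_subgroupOf_eq_of_le inf_le_right] at this
    exact sup_le (inf_le_left.trans hKJ) ((cj_mono a inf_le_left).trans haJ) this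
  obtain ⟨a₁, ha₁⟩ : ∃ a₁, a₁ = z⁻¹ * a := ⟨_, rfl⟩
  have ha₁L : cj a₁ L = L := by
    have := congrArg (Subgroup.map A.subtype) (show cj (⟨a, haA⟩ : A) (L.subgroupOf A) =
      cj z₀ (L.subgroupOf A) from ez₀)
    rw [hLm, hLm] at this
    rw [ha₁, ← cj_cj, show cj a L = cj z L from this, cj_inv_cj]
  -- into `N_G(T)`
  haveI : ((A.subgroupOf K)).Normal := inferInstance
  have hTi : ¬ p ∣ T.relIndex L := fun hd => by
    have h1 : T.relIndex L ∣ T.relIndex A := by
      rw [← Subgroup.relIndex_mul_relIndex T L A hTL inf_le_right]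
      exact dvd_mul_right _ _
    have h2 : T.relIndex A = (T₀ : Subgroup A).index := by
      rw [← hT₀, Subgroup.relIndex, Subgroup.subgroupOf,
        Subgroup.comap_map_eq_self_of_injective A.subtype_injective]
    exact T₀.not_dvd_index (h2 ▸ hd.trans h1)
  obtain ⟨l, hl, hlT⟩ := exists_conj_le (hi := hTi) (P := cj a₁ T) (Q := T) (H := L)
    (ha₁L ▸ cj_mono a₁ hTL) (isPGroup_cj a₁ hTp) hTL hTp
  obtain ⟨a₂, ha₂⟩ : ∃ a₂, a₂ = l * a₁ := ⟨_, rfl⟩
  have ha₂N : a₂ ∈ Subgroup.normalizer (T : Set G) := by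
    refine mem_normalizer_iff_cj.mpr (Subgroup.eq_of_le_of_card_ge ?_ (le_of_eq (card_cj _ _).symm))
    rwa [ha₂, ← cj_cj]
  have ha₂L : cj a₂ L = L := by rw [ha₂, ← cj_cj, ha₁L, cj_self_of_mem hl]
  have hlJ : l ∈ J := hKJ (inf_le_left (α := Subgroup G) hl)
  have ha₂J : cj a₂ K ≤ J := by
    rw [ha₂, ← cj_cj, ha₁, ← cj_cj]
    exact hJinv hlJ (hJinv (inv_mem hzJ) haJ)
  suffices h : ∃ y ∈ J, cj a₂ K = cj y K by
    obtain ⟨y, hy, e⟩ := h
    refine ⟨z * (l⁻¹ * y), mul_mem hzJ (mul_mem (inv_mem hlJ) hy), ?_⟩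
    rw [← cj_cj, ← cj_cj, ← e, ha₂, ha₁, ← cj_cj, ← cj_cj, cj_inv_cj, cj_cj_inv]
  set N := Subgroup.normalizer (T : Set G) with hNdef
  set K₀ := K ⊓ N with hK₀
  have hTN : T ≤ N := Subgroup.le_normalizer
  have hPN : (P : Subgroup G) ≤ N := sylow_le_normalizer hT₀ hTP
  set ρ := QuotientGroup.mk' (T.subgroupOf N) with hρ
  have hρs : Function.Surjective ρ := QuotientGroup.mk'_surjective _
  obtain ⟨yb, hyb, eyb⟩ := hN ((K₀.subgroupOf N).map ρ)
    ⟨(P.subtype hPN).mapSurjective hρs, by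
      rw [Sylow.coe_mapSurjective, Sylow.coe_subtype]
      exact Subgroup.map_mono (Subgroup.comap_mono (le_inf hPK hPN))⟩ (ρ ⟨a₂, ha₂N⟩)
  set J₀ := K₀.subgroupOf N ⊔ cj (⟨a₂, ha₂N⟩ : N) (K₀.subgroupOf N) with hJ₀
  have hyb' : yb ∈ J₀.map ρ := by rw [Subgroup.map_sup, map_cj]; exact hyb
  obtain ⟨y₀, hy₀, rfl⟩ := hyb'
  have hker : T.subgroupOf N ≤ K₀.subgroupOf N :=
    Subgroup.comap_mono (le_inf (hTP.trans hPK) hTN)
  have hkerm : ∀ m : N, T.subgroupOf N ≤ cj m (K₀.subgroupOf N) := fun m => by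
    have e : cj m (T.subgroupOf N) = T.subgroupOf N :=
      mem_normalizer_iff_cj.mp (by rw [Subgroup.normalizer_eq_top]; exact Subgroup.mem_top m)
    exact e ▸ cj_mono m hker
  have e₀ : cj (⟨a₂, ha₂N⟩ : N) (K₀.subgroupOf N) = cj y₀ (K₀.subgroupOf N) := by
    have h1 : (cj (⟨a₂, ha₂N⟩ : N) (K₀.subgroupOf N)).map ρ =
        (cj y₀ (K₀.subgroupOf N)).map ρ := by
      rw [map_cj, map_cj]; exact eyb
    have := congrArg (Subgroup.comap ρ) h1
    rwa [Subgroup.comap_map_eq_self (by rw [QuotientGroup.ker_mk']; exact hkerm _),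
      Subgroup.comap_map_eq_self (by rw [QuotientGroup.ker_mk']; exact hkerm _)] at this
  set y : G := (y₀ : G) with hy
  have hm : ∀ m : N, (cj m (K₀.subgroupOf N)).map N.subtype = cj (m : G) K₀ := fun m => by
    rw [map_cj, Subgroup.map_subgroupOf_eq_of_le inf_le_right]; rfl
  have ey : cj a₂ K₀ = cj y K₀ := by
    have := congrArg (Subgroup.map N.subtype) e₀
    rwa [hm, hm] at this
  have hy2 : y ∈ K₀ ⊔ cj a₂ K₀ := by
    have := Subgroup.mem_map_of_mem N.subtype hy₀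
    rw [hJ₀, Subgroup.map_sup, hm, Subgroup.map_subgroupOf_eq_of_le inf_le_right] at this
    exact this
  have hyJ : y ∈ J := sup_le (inf_le_left.trans hKJ) ((cj_mono a₂ inf_le_left).trans ha₂J) hy2
  have hK₀L : K₀ ≤ Subgroup.normalizer (L : Set G) :=
    inf_le_left.trans ((le_inf Subgroup.le_normalizer
      (by rw [Subgroup.normalizer_eq_top]; exact le_top)).trans
        Subgroup.inf_normalizer_le_normalizer_inf)
  have hyL : cj y L = L := by
    refine mem_normalizer_iff_cj.mp (sup_le hK₀L ?_ hy2)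
    calc cj a₂ K₀ ≤ cj a₂ (Subgroup.normalizer (L : Set G)) := cj_mono a₂ hK₀L
      _ = _ := by rw [← normalizer_cj, ha₂L]
  have hKsup : K = L ⊔ K₀ := by
    refine le_antisymm (fun k hk => ?_) (sup_le inf_le_left inf_le_left)
    have hkL : cj k L = L := by
      rw [hL, cj_inf, cj_self_of_mem hk,
        mem_normalizer_iff_cj.mp (by rw [Subgroup.normalizer_eq_top]; exact Subgroup.mem_top k)]
    obtain ⟨m, hm', hmT⟩ := exists_conj_le (hi := hTi) (P := cj k T) (Q := T) (H := L)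
      (hkL ▸ cj_mono k hTL) (isPGroup_cj k hTp) hTL hTp
    have hmk : m * k ∈ K₀ := by
      refine ⟨mul_mem (inf_le_left (α := Subgroup G) hm') hk, mem_normalizer_iff_cj.mpr
        (Subgroup.eq_of_le_of_card_ge ?_ (le_of_eq (card_cj _ _).symm))⟩
      rwa [← cj_cj]
    rw [← inv_mul_cancel_left m k]
    exact mul_mem (Subgroup.mem_sup_left (inv_mem hm')) (Subgroup.mem_sup_right hmk)
  refine ⟨y, hyJ, ?_⟩
  rw [hKsup, cj, cj, Subgroup.map_sup, Subgroup.map_sup]
  change cj a₂ L ⊔ cj a₂ K₀ = cj y L ⊔ cj y K₀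
  rw [ha₂L, hyL, ey]

theorem allPro_normalizer_quotient (A : Subgroup G) [A.Normal] (hG : AllPro p G)
    {T : Subgroup G} {T₀ : Sylow p A} (hT₀ : (T₀ : Subgroup A).map A.subtype = T)
    [(T.subgroupOf (Subgroup.normalizer (T : Set G))).Normal] :
    AllPro p (↥(Subgroup.normalizer (T : Set G)) ⧸
      T.subgroupOf (Subgroup.normalizer (T : Set G))) := by
  rintro Kb ⟨Pb, hPb⟩
  set N := Subgroup.normalizer (T : Set G)
  set ρ := QuotientGroup.mk' (T.subgroupOf N)
  have hρs : Function.Surjective ρ := QuotientGroup.mk'_surjective _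
  obtain ⟨PN, rfl⟩ := Sylow.mapSurjective_surjective hρs p Pb
  have hTp : IsPGroup p T := hT₀ ▸ T₀.2.map _
  obtain ⟨P, hTP⟩ := hTp.exists_le_sylow
  have hPN : (P : Subgroup G) ≤ N := sylow_le_normalizer hT₀ hTP
  obtain ⟨n, hn⟩ := MulAction.exists_smul_eq N (P.subtype hPN) PN
  have hle : ((n : G) • P : Sylow p G) ≤ (Kb.comap ρ).map N.subtype := by
    intro x hx
    have hx' : x ∈ cj (n : G) (P : Subgroup G) := hx
    rw [mem_cj] at hx'
    have hxN : x ∈ N := by
      have := mul_mem (mul_mem n.2 (hPN hx')) (inv_mem n.2)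
      simpa [mul_assoc] using this
    refine ⟨⟨x, hxN⟩, hPb ?_, rfl⟩
    rw [Sylow.coe_mapSurjective]
    refine Subgroup.mem_map_of_mem ρ ?_
    rw [← hn]
    show (⟨x, hxN⟩ : N) ∈ cj n ((P : Subgroup G).subgroupOf N)
    rw [mem_cj]
    exact hx'
  have h := pronormal_map hρs (pronormal_subgroupOf (Subgroup.map_subtype_le _)
    (hG _ ⟨_, hle⟩))
  rwa [show ((Kb.comap ρ).map N.subtype).subgroupOf N = Kb.comap ρ from
    Subgroup.comap_map_eq_self_of_injective N.subtype_injective _,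
    Subgroup.map_comap_eq_self_of_surjective hρs] at h

theorem normalizer_eq_self_of_le {X : Type v} [Group X] [Finite X]
    (h : ∀ P : Sylow p X, Subgroup.normalizer ((P : Subgroup X) : Set X) = P) (K : Subgroup X)
    (hK : ∃ P : Sylow p X, (P : Subgroup X) ≤ K) : Subgroup.normalizer (K : Set X) = K := by
  refine le_antisymm (fun g hg => ?_) Subgroup.le_normalizer
  obtain ⟨P, hPK⟩ := hK
  have hi : ¬ p ∣ (P : Subgroup X).relIndex K := fun hd =>
    P.not_dvd_index (hd.trans (Subgroup.relIndex_dvd_index_of_le hPK))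
  obtain ⟨k, hk, hkP⟩ := exists_conj_le (hi := hi) (P := cj g P) (Q := (P : Subgroup X))
    (H := K) ((mem_normalizer_iff_cj.mp hg) ▸ cj_mono g hPK) (isPGroup_cj g P.2) hPK P.2
  have : k * g ∈ Subgroup.normalizer ((P : Subgroup X) : Set X) := by
    refine mem_normalizer_iff_cj.mpr
      (Subgroup.eq_of_le_of_card_ge ?_ (le_of_eq (card_cj _ _).symm))
    rwa [← cj_cj]
  rw [h P] at this
  simpa using mul_mem (inv_mem hk) (hPK this)

theorem allPro_of_selfNormalizing {X : Type v} [Group X] [Finite X]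
    (h : ∀ P : Sylow p X, Subgroup.normalizer ((P : Subgroup X) : Set X) = P) : AllPro p X := by
  rintro K ⟨P, hPK⟩ g
  set J := K ⊔ cj g K
  have hPJ : (P : Subgroup X) ≤ J := hPK.trans le_sup_left
  have hi : ¬ p ∣ (P : Subgroup X).relIndex J := fun hd =>
    P.not_dvd_index (hd.trans (Subgroup.relIndex_dvd_index_of_le hPJ))
  obtain ⟨j, hj, hjP⟩ := exists_conj_le (hi := hi) (P := cj g P) (Q := (P : Subgroup X))
    (H := J) ((cj_mono g hPK).trans le_sup_right) (isPGroup_cj g P.2) hPJ P.2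
  have hjg : j * g ∈ K := by
    refine hPK ?_
    rw [← h P]
    refine mem_normalizer_iff_cj.mpr
      (Subgroup.eq_of_le_of_card_ge ?_ (le_of_eq (card_cj _ _).symm))
    rwa [← cj_cj]
  refine ⟨j⁻¹, inv_mem hj, ?_⟩
  show cj g K = cj j⁻¹ K
  conv_lhs => rw [← inv_mul_cancel_left j g, ← cj_cj, cj_self_of_mem hjg]

end Cfsg.Agent.Lib.PronormalSylow
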